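import Groth.Agent.AffProjFormLib.Basic
import Groth.Agent.KFlatLib.StalkTensor
import Groth.Agent.KFlatLib.PushTensor
import Groth.Agent.KFlatLib.FreeModel
import Groth.Agent.S2297
import Groth.Agent.DevissLib.Stalk
import Groth.Agent.QCohLib.Push
import Groth.Agent.QCohLib.Coherent
import Groth.Prelude.Def_ClSub2

/-!
# The stalks of `π_* π^* F` for a finite morphism
-/

set_option autoImplicit false
set_option linter.style.haveILetI false
set_option maxHeartbeats 1600000
set_option maxRecDepth 8000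
set_option backward.isDefEq.respectTransparency false

universe u

open CategoryTheory CategoryTheory.Limits AlgebraicGeometry TopologicalSpace Opposite
open DevissLib KFlatLib
open scoped TensorProduct

noncomputable section

namespace TFNodalLib

variable {X Y : Scheme.{u}} (π : Y ⟶ X)

/-- `π_* O`. -/
abbrev PO : X.Modules := pf π (Coh.structureModule Y)

/-- The germ of `1` in `π_* O`. -/
def one (x : X) : (St x).obj (PO π) :=
  gm (PO π) (U := ⊤) x trivial (show Γ(PO π, ⊤) from (1 : Γ(Y, π ⁻¹ᵁ ⊤)))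

theorem one_eq (x : X) {U : X.Opens} (hx : x ∈ U) :
    one π x = gm (PO π) x hx (show Γ(PO π, U) from (1 : Γ(Y, π ⁻¹ᵁ U))) := by
  rw [one, ← gm_map (PO π) (le_top : U ≤ ⊤) x hx]
  exact congrArg (gm (PO π) x hx) (map_one (Y.presheaf.map (homOfLE (π.preimage_mono (le_top : U ≤ ⊤))).op).hom)

theorem tensUnitIso_shTm (N : Y.Modules) {U : Y.Opens} (r : Γ(Y, U)) (t : Γ(N, U)) :
    (tensUnitIso N).hom.app U (shTm (M := Coh.structureModule Y) (show Γ(Coh.structureModule Y, U) from r) t) =
      r • t := by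
  have h : (tensUnitIso N).hom = tensDesc (M := Coh.structureModule Y) (N := N) (P := N)
      (show (pT (Coh.structureModule Y) N : Y.PresheafOfModules) ⟶ _ from (MonoidalCategoryStruct.leftUnitor (DCoh.toP.obj N)).hom) := rfl
  rw [h]
  exact (tensDesc_shApp _ U _).trans (ModuleCat.MonoidalCategory.leftUnitor_hom_apply _ _)

/-- The unit of pullback and pushforward. -/
abbrev unit (F : X.Modules) : F ⟶ pf π (pb π F) :=
  (Scheme.Modules.pullbackPushforwardAdjunction π).unit.app F

variable [IsFinite π] [IsLocallyNoetherian X]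

/-- `(π_* π^* F)_x ≅ (π_* O)_x ⊗ F_x`, the unit being `m ↦ 1 ⊗ m`. -/
theorem exists_theta (F : X.Modules) (hF : Coh.IsCoh F) (x : X) :
    ∃ Θ : ((St x).obj (PO π) : Type u) ⊗[X.presheaf.stalk x] ((St x).obj F : Type u)
        ≃ₗ[X.presheaf.stalk x] ((St x).obj (pf π (pb π F)) : Type u),
      ∀ m, Θ (one π x ⊗ₜ m) = ((St x).map (unit π F)).hom m := by
  haveI : IsLocallyNoetherian Y := LocallyOfFiniteType.isLocallyNoetherian π
  haveI := hF.1
  have hP : Coh.IsCoh (PO π) := QCohLib.isCoh_push_finite π _ (DevissLib.isCoh_structureModule Y)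
  haveI : Coh.IsQCoh (PO π) := hP.1
  haveI : Coh.IsQCoh (Coh.structureModule Y) := QCohLib.isQCoh_unit
  haveI : Coh.IsQCoh (tens (PO π) F) := (Groth.Agent.S2297.result (PO π) F).1
  haveI : Coh.IsQCoh (pb π F) := KFlatLib.isQCoh_pullback π F
  haveI : Coh.IsQCoh (tens (Coh.structureModule Y) (pb π F)) :=
    QCohLib.isQCoh_of_iso (tensUnitIso (pb π F)).symm
  haveI := AffProjFormLib.isIso_projR π (Coh.structureModule Y) F
  let φ : tens (PO π) F ⟶ pf π (pb π F) :=
    ProjClosedImmLib.projR π (Coh.structureModule Y) F ≫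
      (Scheme.Modules.pushforward π).map (tensUnitIso (pb π F)).hom
  haveI : IsIso φ := inferInstance
  let e := (stalkTensorIso (PO π) F x).toLinearEquiv.trans ((St x).mapIso (asIso φ)).toLinearEquiv
  refine ⟨e, fun m => ?_⟩
  obtain ⟨U, hx, t, rfl⟩ := exists_gm_eq F x m
  rw [one_eq π x hx]
  refine (congrArg ((St x).map φ).hom (stalkTensorIso_hom_tmul (PO π) F x hx _ t)).trans ?_
  refine (gm_app φ x hx _).trans (Eq.trans ?_ (gm_app (unit π F) x hx t).symm)
  refine congrArg (gm (pf π (pb π F)) x hx) ?_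
  change ((Scheme.Modules.pushforward π).map (tensUnitIso (pb π F)).hom).app U
    ((ProjClosedImmLib.projR π (Coh.structureModule Y) F).app U (shTm _ t)) = _
  rw [ProjClosedImmLib.projR_shTm]
  exact (tensUnitIso_shTm (pb π F) (1 : Γ(Y, π ⁻¹ᵁ U)) (puSec π t)).trans (one_smul _ _)

end TFNodalLib
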