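import Groth.Agent.TFNodalLib.Alg
import Groth.Agent.TFNodalLib.Stalk
import Groth.Agent.NormGenusLib.Euler
import Groth.Agent.NormGenusLib.Node
import Groth.Agent.NodalLib.NodeChar
import Groth.Agent.NodalLib.GeoQuad
import Groth.Agent.KoszIntLib.Stalk
import Groth.Agent.BlowRegLib.TfExtend

/-!
# The normalisation of a nodal curve at a node
-/

set_option autoImplicit false
set_option linter.style.haveILetI false
set_option maxHeartbeats 1600000
set_option maxRecDepth 8000
set_option backward.isDefEq.respectTransparency false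

universe u

open CategoryTheory CategoryTheory.Limits AlgebraicGeometry TopologicalSpace Opposite
open DevissLib KFlatLib IsLocalRing
open scoped nonZeroDivisors

noncomputable section

namespace TFNodalLib

variable (k : Type u) [Field k] (X : Scheme.{u}) [X.Over (Spec (CommRingCat.of k))]
  [IsProper (X ↘ Spec (CommRingCat.of k))]

theorem dim_node {x : X} (hx : Curv2.IsNode k X x) : ringKrullDim (X.presheaf.stalk x) = 1 := by
  letI := Curv2.stalkAlgebra k X x
  haveI := NodalLib.essFiniteType_stalk k x
  haveI : IsLocallyNoetherian X := LocallyOfFiniteType.isLocallyNoetherian (X ↘ Spec (CommRingCat.of k))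
  exact NodalLib.IsGeoNode.ringKrullDim_eq ((NodalLib.isNode_iff k x).1 hx).2

theorem not_node_of_isField {x : X} (hx : IsField (X.presheaf.stalk x)) : ¬ Curv2.IsNode k X x := fun hn => by
  have := dim_node k X hn
  rw [ringKrullDim_eq_zero_of_isField hx] at this
  exact zero_ne_one this

theorem not_node_of_isGen {x : X} (hx : FinPicLib.IsGen x) : ¬ Curv2.IsNode k X x := fun hn => by
  let A := X.presheaf.stalk x
  haveI : Subsingleton (PrimeSpectrum A) := ⟨fun a b => by
    refine (X.fromSpecStalk x).isEmbedding.injective ?_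
    have h : ∀ c : PrimeSpectrum A, X.fromSpecStalk x c = x := fun c => by
      refine hx _ ?_
      have hc : X.fromSpecStalk x c ∈ Set.range (X.fromSpecStalk x) := ⟨c, rfl⟩
      rwa [Scheme.range_fromSpecStalk] at hc
    exact (h a).trans (h b).symm⟩
  have h1 : ringKrullDim A ≤ 0 := by
    haveI : Subsingleton (PrimeSpectrum A) := inferInstance
    exact Order.krullDim_nonpos_of_subsingleton
  rw [show ringKrullDim A = 1 from dim_node k X hn] at h1
  exact absurd h1 (by norm_num)

theorem dense_compl_nodes (U : X.Opens) (hU : ∀ x : X, x ∈ U ↔ ¬ Curv2.IsNode k X x) :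
    Dense (U : Set X) := fun y => by
  obtain ⟨η, hη, hηy⟩ := FinPicLib.exists_isGen_specializes (y : X)
  exact closure_mono (Set.singleton_subset_iff.2 ((hU η).2 (not_node_of_isGen k X hη)))
    (specializes_iff_mem_closure.1 hηy)

variable {Y : Scheme.{u}} (π : Y ⟶ X) [IsFinite π] [Smooth (π ≫ (X ↘ Spec (CommRingCat.of k)))]

include k π in
theorem isNormal : Pi1.IsNormalScheme Y := fun y => by
  haveI := KleimanLib.regular_of_smooth (π ≫ (X ↘ Spec (CommRingCat.of k))) y
  haveI : IsDomain (Y.presheaf.stalk y) := CommAlgDim.isDomain_of_isRegularLocalRing _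
  exact ⟨inferInstance, NormalLib.isIntegrallyClosed_of_isRegularLocalRing _⟩

include k π in
theorem isReduced_top : AlgebraicGeometry.IsReduced Y := by
  haveI : ∀ y : Y, _root_.IsReduced (Y.presheaf.stalk y) := fun y => by
    haveI := (isNormal k X π y).1
    infer_instance
  exact isReduced_of_isReduced_stalk _

include k π in
theorem isLocallyNoetherian_top : IsLocallyNoetherian Y :=
  haveI : IsLocallyNoetherian X := LocallyOfFiniteType.isLocallyNoetherian (X ↘ Spec (CommRingCat.of k))
  LocallyOfFiniteType.isLocallyNoetherian π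

/-- The stalk of `π_* O` at a node. -/
theorem nodeData (hdim : topologicalKrullDim X ≤ 1) (hnod : Curv2.AtWorstNodal k X) [IsAlgClosed k]
    (U : X.Opens) (hU : ∀ x : X, x ∈ U ↔ ¬ Curv2.IsNode k X x) (hUiso : IsIso (π ∣_ U))
    (hUd : Dense ((π ⁻¹ᵁ U : Y.Opens) : Set Y)) {x : X} (hx : Curv2.IsNode k X x) :
    NodeData (A := X.presheaf.stalk x) ((St x).obj (PO π)) (one π x) := by
  haveI := CurvLib.isNoetherian k (X := X)
  haveI := NodalLib.isReduced k hnod
  haveI := isReduced_top k X π
  have hY := isNormal k X π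
  have hUX := dense_compl_nodes k X U hU
  let A := X.presheaf.stalk x
  let K := FractionRing A
  obtain ⟨Λ, hinj, hrange, hcomp⟩ := NormGenusLib.exists_stalk_equiv π U hUX hUd hUiso hY x
  let u1 := ((St x).map (ClSub.unitToPush π)).hom
  have hu1 : u1 (KoszIntLib.one' x) = one π x := by
    refine (DevissLib.gm_app (ClSub.unitToPush π) x (U := ⊤) trivial _).trans ?_
    exact congrArg (DevissLib.gm (PO π) (U := ⊤) x trivial) (map_one (π.app ⊤).hom)
  have hspan : Submodule.span A {one π x} = LinearMap.range u1 := by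
    refine le_antisymm ((Submodule.span_singleton_le_iff_mem _ _).2 ⟨_, hu1⟩) ?_
    rintro _ ⟨c, rfl⟩
    obtain ⟨a, rfl⟩ := (KoszIntLib.one'_bijective x).2 c
    exact Submodule.mem_span_singleton.2 ⟨a, by rw [map_smul, hu1]⟩
  obtain ⟨u, hu⟩ : ∃ u : A, algebraMap A K u = Λ (one π x) := by
    have : Λ (one π x) ∈ LinearMap.range (Λ ∘ₗ u1) := ⟨_, congrArg Λ hu1⟩
    rw [hcomp] at this
    exact this
  have huu : IsUnit u := by
    have : (1 : K) ∈ LinearMap.range (Λ ∘ₗ u1) := by rw [hcomp]; exact ⟨1, map_one (algebraMap A K)⟩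
    obtain ⟨c, hc⟩ := this
    obtain ⟨a, rfl⟩ := (KoszIntLib.one'_bijective x).2 c
    rw [LinearMap.comp_apply, map_smul, hu1, map_smul, ← hu, Algebra.smul_def, ← map_mul] at hc
    exact IsUnit.of_mul_eq_one_right a (IsFractionRing.injective A K (hc.trans (map_one _).symm))
  have hq : Module.length A (((St x).obj (PO π) : Type u) ⧸ Submodule.span A {one π x}) = 1 := by
    rw [hspan, ← NormDimOneLib.length_cokernel,
      NormGenusLib.length_eq_deltaInv π U hUX hUd hUiso hY x]
    exact NormGenusLib.deltaInv_node hdim hx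
  haveI : IsSimpleModule A (((St x).obj (PO π) : Type u) ⧸ Submodule.span A {one π x}) :=
    Module.length_eq_one_iff.1 hq
  have hmem : ∀ b, Λ b ∈ integralClosure A K := fun b => by
    have : Λ b ∈ LinearMap.range Λ := ⟨b, rfl⟩
    rwa [hrange] at this
  have hinj1 : ∀ a : A, a • one π x = 0 → a = 0 := fun a ha => by
    have h := congrArg Λ ha
    rw [map_smul, map_zero, ← hu, Algebra.smul_def, ← map_mul, map_eq_zero_iff _ (IsFractionRing.injective A K)] at h
    exact huu.mul_left_eq_zero.1 h
  refine ⟨hinj1, fun s hs b => ?_, fun s hs b hb => ?_, ?_, hq, ?_⟩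
  · obtain ⟨I, hI, ⟨eI⟩⟩ := (isSimpleModule_iff_quot_maximal (R := A)
      (M := ((St x).obj (PO π) : Type u) ⧸ Submodule.span A {one π x})).1 inferInstance
    obtain rfl := eq_maximalIdeal hI
    have h0 : s • Submodule.Quotient.mk (p := Submodule.span A {one π x}) b = 0 := by
      apply eI.injective
      rw [map_smul, map_zero]
      obtain ⟨r, hr⟩ := Ideal.Quotient.mk_surjective (eI (Submodule.Quotient.mk b))
      rw [← hr, Algebra.smul_def, Ideal.Quotient.algebraMap_eq, ← map_mul]
      exact Ideal.Quotient.eq_zero_iff_mem.2 (Ideal.mul_mem_right _ _ hs)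
    rw [← Submodule.Quotient.mk_smul, Submodule.Quotient.mk_eq_zero, Submodule.mem_span_singleton] at h0
    obtain ⟨c, hc⟩ := h0
    refine ⟨c, ?_, hc.symm⟩
    by_contra hcu
    have hcu' : IsUnit (c * u) := ((IsLocalRing.notMem_maximalIdeal).1 hcu).mul huu
    obtain ⟨w, hw⟩ := hcu'.exists_left_inv
    have h := congrArg Λ hc
    rw [map_smul, map_smul, ← hu, Algebra.smul_def, Algebra.smul_def, ← map_mul] at h
    let B := ↥(integralClosure A K)
    haveI : FaithfulSMul A B := (faithfulSMul_iff_algebraMap_injective A B).2 fun p q hpq =>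
      IsFractionRing.injective A K (congrArg Subtype.val hpq)
    have hsB : IsUnit (algebraMap A B s) := IsUnit.of_mul_eq_one
      ((⟨Λ b, hmem b⟩ : B) * algebraMap A B w) (Subtype.ext (by
        change algebraMap A K s * (Λ b * algebraMap A K w) = 1
        rw [← mul_assoc, ← h, ← map_mul, mul_comm, hw, map_one]))
    exact (IsLocalRing.mem_maximalIdeal _).1 hs (IsUnit.of_map (algebraMap A B) s hsB)
  · apply hinj
    have h := congrArg Λ hb
    rw [map_smul, map_zero, Algebra.smul_def] at h
    rw [map_zero]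
    exact (IsLocalization.map_units K (⟨s, hs⟩ : A⁰)).mul_right_eq_zero.1 h
  · obtain ⟨b, hb⟩ : ∃ b, b ∉ Submodule.span A {one π x} := by
      by_contra! h
      haveI := IsSimpleModule.nontrivial A (((St x).obj (PO π) : Type u) ⧸ Submodule.span A {one π x})
      obtain ⟨q, hq0⟩ := exists_ne (0 : ((St x).obj (PO π) : Type u) ⧸ Submodule.span A {one π x})
      obtain ⟨q, rfl⟩ := Submodule.mkQ_surjective _ q
      exact hq0 ((Submodule.Quotient.mk_eq_zero _).2 (h q))
    obtain ⟨⟨a, s⟩, has⟩ := IsLocalization.surj A⁰ (Λ b)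
    refine ⟨s, ?_, s.2⟩
    rw [IsLocalRing.mem_maximalIdeal]
    intro hs
    obtain ⟨w, hw⟩ := hs.exists_left_inv
    obtain ⟨v, hv⟩ := huu.exists_left_inv
    refine hb (Submodule.mem_span_singleton.2 ⟨a * w * v, hinj ?_⟩)
    rw [map_smul, ← hu, Algebra.smul_def, ← map_mul]
    calc algebraMap A K (a * w * v * u) = algebraMap A K a * algebraMap A K w := by
          rw [← map_mul]; congr 1; rw [mul_assoc, hv, mul_one]
      _ = Λ b * algebraMap A K (s * w) := by rw [map_mul, ← mul_assoc, has]
      _ = Λ b := by rw [mul_comm (s : A) w, hw, map_one, mul_one]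
  · letI := Curv2.stalkAlgebra k X x
    haveI := NodalLib.essFiniteType_stalk k x
    obtain ⟨-, hQ, hR⟩ := NodalLib.isGeoNode_facts ((NodalLib.isNode_iff k x).1 hx).2
    have h2 := (NodalLib.qnode_iff_finrank.1 ⟨hQ, hR⟩).2.1
    rw [Module.length_eq_of_surjective (R := ResidueField A) IsLocalRing.residue_surjective]
    rw [Module.length_eq_finrank]
    exact congrArg (Nat.cast : ℕ → ℕ∞) h2

end TFNodalLib
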