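import Groth.Agent.TFNodalLib.Main
import Groth.Agent.PureAssoLib.Basic
import Groth.Agent.AbSchLib.DimFinite
import Groth.Agent.MiscFlat6.NormalLowDim
import Groth.Agent.S1688
import Groth.Agent.NormGenusLib.Stalk
import Mathlib.RingTheory.Flat.TorsionFree
import Groth.Prelude.Def_ShStab

/-!
# Pure modules on a nodal curve embed into direct images from the normalisation
-/

set_option autoImplicit false
set_option linter.style.haveILetI false
set_option linter.unusedSectionVars false
set_option maxHeartbeats 1600000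
set_option maxRecDepth 8000
set_option backward.isDefEq.respectTransparency false

universe u

open CategoryTheory CategoryTheory.Limits AlgebraicGeometry TopologicalSpace Opposite
open IsLocalRing
open scoped nonZeroDivisors TensorProduct
open DevissLib (St)
open KFlatLib (pf pb puSec)
open DevissLib (gm_app gm_map gm_zero gm_smul exists_gm_eq)

noncomputable section

namespace TFNodalLib

theorem one_eq_unitToPush {X Y : Scheme.{u}} (π : Y ⟶ X) (x : X) :
    ((St x).map (ClSub.unitToPush π)).hom (KoszIntLib.one' x) = one π x := by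
  refine (DevissLib.gm_app (ClSub.unitToPush π) x (U := ⊤) trivial _).trans ?_
  exact congrArg (DevissLib.gm (PO π) (U := ⊤) x trivial) (map_one (π.app ⊤).hom)

/-- A finite free stalk of `π_* O` gives a bijective unit. -/
theorem unit_bijective_of_one {X Y : Scheme.{u}} (π : Y ⟶ X) [IsFinite π] [IsLocallyNoetherian X]
    (F : X.Modules) (hF : Coh.IsCoh F) (x : X)
    (h1 : Function.Bijective (fun c : X.presheaf.stalk x => c • one π x)) :
    Function.Bijective ((St x).map (unit π F)).hom := by
  obtain ⟨Θ, hΘ⟩ := exists_theta π F hF x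
  let A := X.presheaf.stalk x
  let eP : A ≃ₗ[A] ((St x).obj (PO π) : Type u) :=
    LinearEquiv.ofBijective (LinearMap.toSpanSingleton A _ (one π x)) h1
  let L := (TensorProduct.lid A ((St x).obj F : Type u)).symm.trans
    (TensorProduct.congr eP (LinearEquiv.refl A ((St x).obj F : Type u)))
  have h : ⇑((St x).map (unit π F)).hom = Θ ∘ L := funext fun m => by
    rw [← hΘ m, Function.comp_apply]
    refine congrArg Θ ?_
    change _ = eP 1 ⊗ₜ[A] m
    rw [show eP 1 = (1 : A) • one π x from rfl, one_smul]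
  rw [h]
  exact Θ.bijective.comp L.bijective

theorem isIso_of_restrict {X Y : Scheme.{u}} (π : Y ⟶ X) {U : X.Opens} (hUiso : IsIso (π ∣_ U)) (y : Y)
    (hy : π y ∈ U) : IsIso (π.stalkMap y) := by
  haveI := hUiso
  let z : (π ⁻¹ᵁ U : Y.Opens) := ⟨y, hy⟩
  exact (MorphismProperty.isomorphisms.iff _).1 (((MorphismProperty.isomorphisms CommRingCat).arrow_mk_iso_iff
    (morphismRestrictStalkMap π U z)).1 ((MorphismProperty.isomorphisms.iff _).2 inferInstance))

/-- Pullbacks of torsion free modules are torsion free at points where the map is a local isomorphism. -/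
theorem torsionFree_pullback_stalk {X Y : Scheme.{u}} (π : Y ⟶ X) (F : X.Modules) (y : Y) [IsIso (π.stalkMap y)]
    (htf : Module.IsTorsionFree (X.presheaf.stalk (π y)) (F.presheaf.stalk (π y))) :
    ∀ c ∈ (Y.presheaf.stalk y)⁰, ∀ q : (St y).obj (pb π F), c • q = 0 → q = 0 := by
  let R := X.presheaf.stalk (π y)
  let R' := Y.presheaf.stalk y
  letI : Algebra R R' := (π.stalkMap y).hom.toAlgebra
  let φ : R ≃ₗ[R] R' := LinearEquiv.ofBijective (Algebra.linearMap R R')
    (ConcreteCategory.bijective_of_isIso (π.stalkMap y))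
  let N := ((St (π y)).obj F : Type u)
  let e1 : (R' ⊗[R] N) ≃ₗ[R'] ((St y).obj (pb π F) : Type u) :=
    ((KFlatLib.stalkPullIso π y).app F).toLinearEquiv.symm
  let e2 : (R' ⊗[R] N) ≃ₗ[R] N :=
    (TensorProduct.congr φ.symm (LinearEquiv.refl R N)).trans (TensorProduct.lid R N)
  intro c hc q hq
  obtain ⟨z, rfl⟩ := e1.surjective q
  obtain ⟨c0, rfl⟩ := φ.surjective c
  rw [← map_smul, e1.map_eq_zero_iff] at hq
  have h2 : c0 • z = 0 := by
    rw [← IsScalarTower.algebraMap_smul R' c0 z]
    exact hq
  have hc0 : IsRegular c0 := isRegular_iff_mem_nonZeroDivisors.2 (mem_nonZeroDivisors_iff_right.2 fun w hw => by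
    refine φ.injective ((mem_nonZeroDivisors_iff_right.1 hc (φ w) ?_).trans (map_zero φ).symm)
    change algebraMap R R' w * algebraMap R R' c0 = 0
    rw [← map_mul, hw, map_zero])
  have h3 : c0 • e2 z = c0 • (0 : N) := by rw [smul_zero, ← map_smul, h2, map_zero]
  rw [e2.map_eq_zero_iff.1 (htf.isSMulRegular hc0 h3), map_zero]

theorem push_epi_surjective {X Y : Scheme.{u}} (π : Y ⟶ X) [IsAffineHom π] {E E' : Y.Modules} [Coh.IsQCoh E]
    [Coh.IsQCoh E'] (p : E ⟶ E') [Epi p] (x : X) :
    Function.Surjective ((St x).map ((Scheme.Modules.pushforward π).map p)).hom := by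
  intro m
  obtain ⟨W, hx, s, rfl⟩ := exists_gm_eq _ x m
  obtain ⟨V, hV, hxV, hVW⟩ := exists_isAffineOpen_mem_and_subset hx
  obtain ⟨s', hs'⟩ := OmegaAffLib.surjective_app_of_epi p (hV.preimage π)
    ((pf π E').presheaf.map (homOfLE (show V ≤ W from hVW)).op s)
  refine ⟨DevissLib.gm (pf π E) x hxV s', ?_⟩
  rw [gm_app]
  exact (congrArg (DevissLib.gm (pf π E') x hxV) hs').trans (gm_map _ _ x hxV s)

/-- Pure modules of dimension one on a reduced one-dimensional scheme are torsion free. -/
theorem torsionFree_of_pure {X : Scheme.{u}} [IsNoetherian X] [AlgebraicGeometry.IsReduced X]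
    (hdim : topologicalKrullDim X ≤ 1) {F : X.Modules} (hF : Coh.IsCoh F) (hp : ShStab.IsPure X F 1) :
    TorSh.IsTorsionFree F := fun x => by
  refine ⟨fun r hr m m' hmm => sub_eq_zero.1 ?_⟩
  by_contra hne
  let A := X.presheaf.stalk x
  let n : F.presheaf.stalk x := m - m'
  have hrn : r • n = 0 := by rw [smul_sub, show r • m = r • m' from hmm, sub_self]
  let N : Submodule A (F.presheaf.stalk x) := Submodule.span A {n}
  haveI : Nontrivial N := ⟨⟨⟨n, Submodule.mem_span_singleton_self n⟩, 0, fun h => hne (congrArg Subtype.val h)⟩⟩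
  obtain ⟨P, hP⟩ := associatedPrimes.nonempty A N
  obtain ⟨hprime, v, hv⟩ := isAssociatedPrime_iff.1 hP
  obtain ⟨b, hb⟩ := Submodule.mem_span_singleton.1 v.2
  have hv0 : (v : F.presheaf.stalk x) ≠ 0 := fun h => hprime.ne_top (by
    rw [hv, Ideal.eq_top_iff_one, Submodule.mem_colon_singleton, Submodule.mem_bot, one_smul]
    exact Subtype.ext h)
  have hrP : r ∈ P := by
    rw [hv, Submodule.mem_colon_singleton, Submodule.mem_bot]
    refine Subtype.ext ?_
    change r • (v : F.presheaf.stalk x) = 0
    rw [← hb, smul_comm, hrn, smul_zero]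
  haveI := hprime
  have hd : ringKrullDim A ≤ 1 := (MiscFlat6.ringKrullDim_stalk_le X x).trans hdim
  have hPmax : P = maximalIdeal A := by
    by_contra hPne
    have hlt : P < maximalIdeal A := lt_of_le_of_ne (le_maximalIdeal hprime.ne_top) hPne
    obtain ⟨q, hq, hqP⟩ := Ideal.exists_minimalPrimes_le (I := (⊥ : Ideal A)) (J := P) bot_le
    have hne' : q ≠ P := fun e => Set.disjoint_left.1
      (Ideal.disjoint_nonZeroDivisors_of_mem_minimalPrimes hq) (e ▸ hrP)
      ((isRegular_iff_mem_nonZeroDivisors).1 hr)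
    haveI := hq.1.1
    let a₀ : PrimeSpectrum A := ⟨q, hq.1.1⟩
    let a₁ : PrimeSpectrum A := ⟨P, hprime⟩
    let a₂ : PrimeSpectrum A := ⟨maximalIdeal A, inferInstance⟩
    have h01 : a₀ < a₁ := lt_of_le_of_ne hqP fun e => hne' (congrArg PrimeSpectrum.asIdeal e)
    have h12 : a₁ < a₂ := hlt
    let s : LTSeries (PrimeSpectrum A) :=
      ((RelSeries.singleton _ a₀).snoc a₁ h01).snoc a₂ (by rw [RelSeries.last_snoc]; exact h12)
    have h2 := Order.LTSeries.length_le_krullDim s
    have h3 : ((s.length : ℕ∞) : WithBot ℕ∞) ≤ ((1 : ℕ) : WithBot ℕ∞) := h2.trans hd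
    rw [show s.length = 2 from rfl] at h3
    exact absurd h3 (by norm_num)
  have hxcl : IsClosed ({x} : Set X) := by
    by_contra hc
    obtain ⟨y, hxy, hy⟩ : ∃ y, x ⤳ y ∧ y ≠ x := by
      by_contra h
      push Not at h
      refine hc ?_
      rw [← closure_subset_iff_isClosed]
      exact fun y hy => h y (specializes_iff_mem_closure.2 hy)
    obtain ⟨q, hq, hqm⟩ := Ideal.exists_minimalPrimes_le (I := (⊥ : Ideal A)) (J := maximalIdeal A) bot_le
    let z := X.fromSpecStalk x ⟨q, hq.1.1⟩
    have hzx : z ⤳ x := by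
      have h : z ∈ Set.range (X.fromSpecStalk x) := ⟨_, rfl⟩
      rwa [Scheme.range_fromSpecStalk] at h
    have hzne : z ≠ x := fun h => by
      have hb : (⟨q, hq.1.1⟩ : PrimeSpectrum A) = IsLocalRing.closedPoint A :=
        (X.fromSpecStalk x).isEmbedding.injective (h.trans Scheme.fromSpecStalk_closedPoint.symm)
      exact Set.disjoint_left.1 (Ideal.disjoint_nonZeroDivisors_of_mem_minimalPrimes hq)
        (show r ∈ q by rw [show q = maximalIdeal A from congrArg PrimeSpectrum.asIdeal hb]; exact hPmax ▸ hrP)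
        ((isRegular_iff_mem_nonZeroDivisors).1 hr)
    exact hy (FinPicLib.eq_of_specializes_of_not_isGen hdim (fun hg => hzne (hg z hzx)) hxy).symm
  refine PureAssoLib.not_asso_closed hF hp hxcl ⟨(v : F.presheaf.stalk x), hv0, fun c hc => ?_⟩
  rw [← hPmax, hv, Submodule.mem_colon_singleton, Submodule.mem_bot] at hc
  exact congrArg Subtype.val hc

variable {k : Type u} [Field k]

theorem pure_into_push [IsAlgClosed k] (C : Scheme.{u}) [C.Over (Spec (CommRingCat.of k))]
    [IsProper (C ↘ (Spec (CommRingCat.of k)))]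
    (hdim : ∀ Z ∈ irreducibleComponents (C : Type u), topologicalKrullDim Z = 1) (hC : Curv2.AtWorstNodal k C)
    (C' : Scheme.{u}) (π : C' ⟶ C) [IsFinite π] (hC' : Pi1.IsNormalScheme C')
    (U : C.Opens) (hU : Dense (U : Set C)) (hU' : Dense ((π ⁻¹ᵁ U : C'.Opens) : Set C')) (hπU : IsIso (π ∣_ U))
    (F : C.Modules) (hF : Coh.IsCoh F) (hpure : ShStab.IsPure C F 1) :
    ∃ (F' : C'.Modules) (f : F ⟶ (Scheme.Modules.pushforward π).obj F'),
      Coh.IsCoh F' ∧ FlatMod.IsFinLocFree F' ∧ Mono f ∧
        CohB1.support (cokernel f) ⊆ {x : C | Curv2.IsNode k C x} := by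
  haveI := CurvLib.isNoetherian k (X := C)
  haveI := NodalLib.isReduced k hC
  haveI : AlgebraicGeometry.IsReduced C' := by
    haveI : ∀ y : C', _root_.IsReduced (C'.presheaf.stalk y) := fun y => by
      haveI := (hC' y).1
      infer_instance
    exact isReduced_of_isReduced_stalk _
  haveI : IsLocallyNoetherian C' := LocallyOfFiniteType.isLocallyNoetherian π
  haveI : CompactSpace C' := QuasiCompact.compactSpace_of_compactSpace π
  haveI : IsNoetherian C' := {}
  haveI := hπU
  have hd1 : topologicalKrullDim C ≤ 1 := by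
    exact_mod_cast FibDimLib.IsPureDim.topologicalKrullDim_le (A := C) (e := 1) hdim
  haveI : Surjective π := ⟨fun x => by
    have hsub : (U : Set C) ⊆ Set.range π := fun x hx => by
      obtain ⟨z, hz⟩ := (ConcreteCategory.bijective_of_isIso (π ∣_ U).base).2 ⟨x, hx⟩
      exact ⟨z.1, (morphismRestrict_base_coe π U z).symm.trans (congrArg Subtype.val hz)⟩
    have hcl : IsClosed (Set.range π) := π.isClosedMap.isClosed_range
    exact closure_minimal hsub hcl (hU x)⟩
  have hd1' : topologicalKrullDim C' ≤ 1 := by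
    rw [AbSchLib.topologicalKrullDim_eq_of_finite_surjective π]; exact hd1
  have htfF := torsionFree_of_pure hd1 hF hpure
  -- `1` is a basis away from the nodes
  have hone : ∀ x : C, ¬ Curv2.IsNode k C x →
      Function.Bijective (fun c : C.presheaf.stalk x => c • one π x) := by
    intro x hx
    haveI := GenusPushLib.mono_unit π U hU
    let u1 := ((St x).map (ClSub.unitToPush π)).hom
    have hinj : Function.Injective u1 := (ModuleCat.mono_iff_injective _).1 inferInstance
    have hlen : Module.length (C.presheaf.stalk x) ((cokernel (ClSub.unitToPush π)).presheaf.stalk x) = 0 := by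
      by_cases hxU : x ∈ U
      · haveI : IsClosedImmersion (π ∣_ U) := inferInstance
        haveI : Subsingleton ((cokernel (ClSub.unitToPush π)).presheaf.stalk x) :=
          ModuleCat.subsingleton_of_isZero ((DevissLib.notMem_support_iff _ x).1
            (GenusPushLib.notMem_support_cokernel_unit π U hxU))
        exact Module.length_eq_zero
      · have hxc : IsClosed ({x} : Set C) := by
          rw [← closure_subset_iff_isClosed]
          intro y hy
          exact (FinPicLib.eq_of_specializes_of_not_isGen hd1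
            (fun hg => hxU (FinPicLib.mem_of_dense hg U.isOpen hU)) (specializes_iff_mem_closure.2 hy)).symm
        obtain ⟨V, hxV, hs⟩ := (hC x hxc).resolve_right hx
        haveI := KleimanLib.regular_of_smooth (V.ι ≫ (C ↘ Spec (CommRingCat.of k))) ⟨x, hxV⟩
        let A := V.toScheme.presheaf.stalk ⟨x, hxV⟩
        haveI : IsDomain A := CommAlgDim.isDomain_of_isRegularLocalRing A
        haveI : IsIntegrallyClosed A := NormalLib.isIntegrallyClosed_of_isRegularLocalRing A
        let e : A ≃+* C.presheaf.stalk x := (V.stalkIso ⟨x, hxV⟩).commRingCatIsoToRingEquiv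
        haveI : IsDomain (C.presheaf.stalk x) := e.symm.toMulEquiv.isDomain _
        haveI : IsIntegrallyClosed (C.presheaf.stalk x) := IsIntegrallyClosed.of_equiv e
        rw [NormGenusLib.length_eq_deltaInv π U hU hU' hπU hC' x, Curv2.deltaInv, Module.length_eq_zero_iff,
          Submodule.Quotient.subsingleton_iff, LinearMap.range_eq_top]
        intro q
        obtain ⟨a, ha⟩ := IsIntegrallyClosed.isIntegral_iff.1 q.2
        exact ⟨a, Subtype.ext ha⟩
    have hsurj : Function.Surjective u1 := by
      rw [← LinearMap.range_eq_top]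
      rw [NormDimOneLib.length_cokernel, Module.length_eq_zero_iff, Submodule.Quotient.subsingleton_iff] at hlen
      exact hlen
    have he : (fun c : C.presheaf.stalk x => c • one π x) = u1 ∘ fun c => c • KoszIntLib.one' x :=
      funext fun c => (by rw [Function.comp_apply, map_smul, one_eq_unitToPush])
    rw [he]
    exact Function.Bijective.comp ⟨hinj, hsurj⟩ (KoszIntLib.one'_bijective x)
  have hnU : ∀ x : C, x ∈ U → Function.Bijective ((St x).map (unit π F)).hom := fun x hx => by
    refine unit_bijective_of_one π F hF x ?_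
    haveI := GenusPushLib.mono_unit π U hU
    haveI : IsClosedImmersion (π ∣_ U) := inferInstance
    haveI : Subsingleton ((cokernel (ClSub.unitToPush π)).presheaf.stalk x) :=
      ModuleCat.subsingleton_of_isZero ((DevissLib.notMem_support_iff _ x).1
        (GenusPushLib.notMem_support_cokernel_unit π U hx))
    have hlen : Module.length (C.presheaf.stalk x) ((cokernel (ClSub.unitToPush π)).presheaf.stalk x) = 0 :=
      Module.length_eq_zero
    rw [NormDimOneLib.length_cokernel, Module.length_eq_zero_iff, Submodule.Quotient.subsingleton_iff] at hlen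
    have he : (fun c : C.presheaf.stalk x => c • one π x) =
        ((St x).map (ClSub.unitToPush π)).hom ∘ fun c => c • KoszIntLib.one' x :=
      funext fun c => (by rw [Function.comp_apply, map_smul, one_eq_unitToPush])
    rw [he]
    exact Function.Bijective.comp ⟨(ModuleCat.mono_iff_injective _).1 inferInstance, LinearMap.range_eq_top.1 hlen⟩
      (KoszIntLib.one'_bijective x)
  -- the quotient by the torsion
  let E := pb π F
  let V := π ⁻¹ᵁ U
  have hE : Coh.IsCoh E := ConsLib.isCoh_pullback π hF
  haveI := hE.1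
  haveI : NoetherianSpace (↑V : Scheme.{u}) := V.ι.isOpenEmbedding.isInducing.noetherianSpace
  haveI : QuasiCompact V.ι := ⟨fun W _ _ => TopologicalSpace.NoetherianSpace.isCompact _⟩
  let P := (Scheme.Modules.pushforward V.ι).obj (E.restrict V.ι)
  haveI : Coh.IsQCoh P := QCohLib.isQCoh_pushforward V.ι _
  let φ : E ⟶ P := (Scheme.Modules.restrictAdjunction V.ι).unit.app E
  have hφ : ∀ (W : C'.Opens) (z : Γ(E, W)), φ.app W z =
      E.presheaf.map (homOfLE (V.ι.image_preimage_le W)).op z := fun W z =>
    congr($(Scheme.Modules.restrictAdjunction_unit_app_app V.ι E W) z)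
  let F' := Abelian.coimage φ
  let p : E ⟶ F' := Abelian.coimage.π φ
  let ι' : F' ⟶ P := Abelian.factorThruCoimage φ
  have hfac : p ≫ ι' = φ := Abelian.coimage.fac φ
  haveI hmono : Mono ι' := inferInstance
  haveI hepi : Epi p := inferInstance
  have hF' : Coh.IsCoh F' := QCohLib.isCoh_cokernel (kernel.ι φ) (QCohLib.isQCoh_kernel φ) hE
  have hkey : ∀ (W : C'.Opens) (z : Γ(E, W)), p.app W z = 0 →
      ∀ (y : C') (hy : y ∈ W), y ∈ V → DevissLib.gm E y hy z = 0 := by
    intro W z hz y hy hyV
    have h0 : φ.app W z = 0 := by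
      rw [← hfac]
      exact (congrArg (ι'.app W) hz).trans (map_zero _)
    rw [hφ] at h0
    have hy' : y ∈ V.ι ''ᵁ (V.ι ⁻¹ᵁ W) := ⟨⟨y, hyV⟩, hy, rfl⟩
    rw [← gm_map E (V.ι.image_preimage_le W) y hy']
    exact (congrArg (DevissLib.gm E y hy') h0).trans (gm_zero E y hy')
  refine ⟨F', unit π F ≫ (Scheme.Modules.pushforward π).map p, hF', ?_, ?_, ?_⟩
  · -- locally free
    refine Groth.Agent.S1688.isFinLocFree_of_isFP_of_flat (QCohLib.isFP_of_isCoh F' hF') fun y => ?_
    haveI := (hC' y).1
    haveI := (hC' y).2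
    let R := C'.presheaf.stalk y
    show Module.Flat R (F'.presheaf.stalk y)
    haveI hreg : IsRegularLocalRing R :=
      MiscFlat6.isRegularLocalRing_of_normal_dim_le_one R ((MiscFlat6.ringKrullDim_stalk_le C' y).trans hd1')
    by_cases hf : IsField R
    · letI := hf.toField
      exact Module.Flat.of_free
    have hd : ringKrullDim R ≤ 1 := (MiscFlat6.ringKrullDim_stalk_le C' y).trans hd1'
    have h1 : Module.finrank (IsLocalRing.ResidueField R) (IsLocalRing.CotangentSpace R) ≤ 1 := by
      have e := (IsRegularLocalRing.iff_finrank_cotangentSpace R).1 inferInstance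
      rw [← e] at hd
      exact_mod_cast hd
    haveI : IsPrincipalIdealRing R := ((tfae_of_isNoetherianRing_of_isLocalRing_of_isDomain R).out 5 0).1 h1
    rw [Module.Flat.flat_iff_torsion_eq_bot_of_isBezout, eq_bot_iff]
    rintro m ⟨⟨r, hr⟩, hm⟩
    change r • m = 0 at hm
    rw [Submodule.mem_bot]
    obtain ⟨W, hy, s, rfl⟩ := exists_gm_eq F' y m
    obtain ⟨W', hyW', r', rfl⟩ := TopCat.Presheaf.exists_germ_eq C'.presheaf r
    obtain ⟨T, hT, hyT, hTle⟩ := exists_isAffineOpen_mem_and_subset (show y ∈ W ⊓ W' from ⟨hy, hyW'⟩)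
    have hTW : T ≤ W := fun z hz => (hTle hz).1
    have hTW' : T ≤ W' := fun z hz => (hTle hz).2
    obtain ⟨g, hyg, hreg'⟩ := NormGenusLib.exists_reg_nbhd hT hyT (C'.presheaf.map (homOfLE hTW').op r')
      (by rw [TopCat.Presheaf.germ_res_apply]; exact hr)
    have hgT : C'.basicOpen g ≤ T := C'.basicOpen_le g
    let r0 := C'.presheaf.map (homOfLE hgT).op (C'.presheaf.map (homOfLE hTW').op r')
    let s0 := F'.presheaf.map (homOfLE (hgT.trans hTW)).op s
    have h1 : DevissLib.gm F' y hyg (r0 • s0) = 0 := by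
      rw [gm_smul, gm_map, TopCat.Presheaf.germ_res_apply, TopCat.Presheaf.germ_res_apply]
      exact hm
    obtain ⟨D, hDg, hyD, hD⟩ := exists_nbhd_zero _ y hyg _ h1
    rw [Scheme.Modules.map_smul] at hD
    set r1 := C'.presheaf.map (homOfLE hDg).op r0
    set s1 := F'.presheaf.map (homOfLE hDg).op s0
    rw [← gm_map F' (hgT.trans hTW) y hyg, ← gm_map F' hDg y hyD]
    obtain ⟨D', hD', hyD', hD'le⟩ := exists_isAffineOpen_mem_and_subset hyD
    haveI := hF'.1
    obtain ⟨z, hz⟩ := OmegaAffLib.surjective_app_of_epi p hD'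
      (F'.presheaf.map (homOfLE (show D' ≤ D from hD'le)).op s1)
    rw [← gm_map F' (show D' ≤ D from hD'le) y hyD', ← hz]
    suffices h0 : φ.app D' z = 0 by
      have hi : Function.Injective ((St y).map ι').hom := (ModuleCat.mono_iff_injective _).1 inferInstance
      apply hi
      rw [gm_app, map_zero]
      have : ι'.app D' (p.app D' z) = 0 := by
        rw [← hfac] at h0
        exact h0
      exact (congrArg (DevissLib.gm P y hyD') this).trans (gm_zero P y hyD')
    rw [hφ]
    refine eq_zero_of_germs E _ fun w hw => ?_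
    rw [gm_map]
    obtain ⟨⟨z', hzV⟩, hzD, rfl⟩ := hw
    set rz := C'.presheaf.map (homOfLE (show D' ≤ D from hD'le)).op r1
    have h2 : p.app D' (rz • z) = 0 := by
      rw [Scheme.Modules.Hom.app_smul, hz, ← Scheme.Modules.map_smul, hD, map_zero]
    have h4 := hkey D' (rz • z) h2 z' hzD hzV
    rw [gm_smul, TopCat.Presheaf.germ_res_apply] at h4
    haveI : IsIso (π.stalkMap z') := isIso_of_restrict π hπU z' hzV
    exact torsionFree_pullback_stalk π F z' (htfF (π z')) _
      (NodeFrobLib.Reg.res hreg' hDg z' (hD'le hzD)) _ h4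
  · -- injectivity
    refine mono_of_stalks _ fun x => (injective_iff_map_eq_zero _).2 fun m hm => ?_
    obtain ⟨W, hx, t, rfl⟩ := exists_gm_eq F x m
    rw [gm_app] at hm
    obtain ⟨W', hWW, hxW', hW'⟩ := exists_nbhd_zero _ x hx _ hm
    rw [← gm_map F hWW x hxW']
    set t' := F.presheaf.map (homOfLE hWW).op t
    have ht' : (unit π F ≫ (Scheme.Modules.pushforward π).map p).app W' t' = 0 :=
      (QCohLib.app_map _ (homOfLE hWW) t).trans hW'
    suffices h0 : t' = 0 by rw [h0, gm_zero]
    refine BlowRegLib.eq_zero_of_generic_germs hF htfF t' fun η hη hf => ?_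
    have hηU : η ∈ U := BlowRegLib.mem_of_isField_stalk hU hf
    apply (hnU η hηU).1
    rw [gm_app, map_zero]
    have hWU : W' ⊓ U ≤ W' := inf_le_left
    rw [← gm_map (pf π (pb π F)) hWU η (show η ∈ W' ⊓ U from ⟨hη, hηU⟩)]
    refine (congrArg (DevissLib.gm (pf π (pb π F)) η (show η ∈ W' ⊓ U from ⟨hη, hηU⟩)) ?_).trans
      (gm_zero (pf π (pb π F)) (U := W' ⊓ U) η ⟨hη, hηU⟩)
    change (pb π F).presheaf.map (homOfLE (π.preimage_mono hWU)).op (puSec π t') = 0
    refine eq_zero_of_germs _ _ fun y hy => ?_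
    rw [gm_map]
    exact hkey (π ⁻¹ᵁ W') (puSec π t') ht' y _ hy.2
  · -- support of the cokernel
    intro x hx
    by_contra hn
    refine DevissLib.notMem_support_cokernel _ x ?_ hx
    rw [Functor.map_comp, ModuleCat.hom_comp]
    haveI := hF'.1
    exact (push_epi_surjective π p x).comp (unit_bijective_of_one π F hF x (hone x hn)).2

end TFNodalLib
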