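import Groth.Agent.TFNodalLib.Node
import Groth.Agent.CurvLib.StalkSum
import Groth.Agent.LocSuppLib.LocFree
import Groth.Agent.OmegaAffLib.StalkCrit
import Groth.Prelude.Def_Curv2
import Mathlib.RingTheory.OrzechProperty

/-!
# Torsion free modules on a nodal curve and its normalisation
-/

set_option autoImplicit false
set_option linter.style.haveILetI false
set_option linter.unusedSectionVars false
set_option maxHeartbeats 1600000
set_option maxRecDepth 8000
set_option backward.isDefEq.respectTransparency false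

universe u

open CategoryTheory CategoryTheory.Limits AlgebraicGeometry TopologicalSpace Opposite
open IsLocalRing
open scoped nonZeroDivisors TensorProduct
open DevissLib (St)
open KFlatLib (pf pb puSec)
open DevissLib (gm_app gm_map gm_zero gm_smul exists_gm_eq)

noncomputable section

namespace TFNodalLib

theorem exists_nbhd_zero {Z : Scheme.{u}} (M : Z.Modules) (z : Z) {V : Z.Opens} (hz : z ∈ V) (s : Γ(M, V))
    (h : DevissLib.gm M z hz s = 0) :
    ∃ (W : Z.Opens) (i : W ≤ V), z ∈ W ∧ M.presheaf.map (homOfLE i).op s = 0 := by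
  obtain ⟨W, hW, i₁, i₂, he⟩ := TopCat.Presheaf.germ_eq M.presheaf z hz hz s 0 (h.trans (gm_zero M z hz).symm)
  refine ⟨W, leOfHom i₁, hW, ?_⟩
  rw [show homOfLE (leOfHom i₁) = i₁ from Subsingleton.elim _ _]
  exact he.trans (map_zero _)

theorem eq_zero_of_germs {Z : Scheme.{u}} (M : Z.Modules) {V : Z.Opens} (s : Γ(M, V))
    (h : ∀ (z : Z) (hz : z ∈ V), DevissLib.gm M z hz s = 0) : s = 0 :=
  TopCat.Presheaf.section_ext ((QCohLib.toAbF Z).obj M : TopCat.Sheaf AddCommGrpCat _) V s 0 fun z hz => by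
    change DevissLib.gm M z hz s = DevissLib.gm M z hz 0
    rw [gm_zero, h z hz]

theorem mono_of_stalks {Z : Scheme.{u}} {A B : Z.Modules} (f : A ⟶ B)
    (h : ∀ z, Function.Injective ((St z).map f).hom) : Mono f := by
  refine Preadditive.mono_of_cancel_zero _ fun g hg => Scheme.Modules.hom_ext _ _ fun W => ?_
  ext s
  refine eq_zero_of_germs A (g.app W s) fun z hz => h z ?_
  rw [gm_app, map_zero]
  exact (congrArg (fun φ => DevissLib.gm B z hz (φ.app W s)) hg).trans (gm_zero B z hz)

theorem isTorsionFree_stalk_pi {R : Type u} [CommRing R] {M : Type u} [AddCommGroup M] [Module R M] {n : ℕ}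
    (e : M ≃ₗ[R] (Fin n → R)) : Module.IsTorsionFree R M :=
  ⟨fun r hr m m' h => e.injective (funext fun i => hr.1 (by
    have := congrFun (congrArg e h) i
    simpa [smul_eq_mul] using this))⟩

theorem torsionFree_of_locFree {Z : Scheme.{u}} {n : ℕ} {E : Z.Modules}
    (hE : FlatMod.IsFinLocFreeOfRank n E) : TorSh.IsTorsionFree E := fun z => by
  obtain ⟨e⟩ := CurvLib.nonempty_stalk_pi_of_locFree hE z
  exact isTorsionFree_stalk_pi e

variable (k : Type u) [Field k] {X Y : Scheme.{u}} [X.Over (Spec (CommRingCat.of k))]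
  [IsProper (X ↘ Spec (CommRingCat.of k))] (π : Y ⟶ X) [IsFinite π]
  [Smooth (π ≫ (X ↘ Spec (CommRingCat.of k)))] {U : X.Opens}

/-- Over `U` the map `π` induces isomorphisms of local rings. -/
theorem isIso_stalkMap (hUiso : IsIso (π ∣_ U)) (y : Y) (hy : π y ∈ U) : IsIso (π.stalkMap y) := by
  haveI := hUiso
  let z : (π ⁻¹ᵁ U : Y.Opens) := ⟨y, hy⟩
  exact (MorphismProperty.isomorphisms.iff _).1 (((MorphismProperty.isomorphisms CommRingCat).arrow_mk_iso_iff
    (morphismRestrictStalkMap π U z)).1 ((MorphismProperty.isomorphisms.iff _).2 inferInstance))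

variable (hU : ∀ x : X, x ∈ U ↔ ¬ Curv2.IsNode k X x) (hUiso : IsIso (π ∣_ U))
  (hUd : Dense ((π ⁻¹ᵁ U : Y.Opens) : Set Y)) (hnod : Curv2.AtWorstNodal k X)

include k hUd in
/-- A section of a locally free module on the normalisation is determined over `U`. -/
theorem eq_zero_of_germs_U {r : ℕ} {E : Y.Modules} (hE : FlatMod.IsFinLocFreeOfRank r E) {W : Y.Opens}
    (s : Γ(E, W)) (h : ∀ (y : Y) (hy : y ∈ W), π y ∈ U → DevissLib.gm E y hy s = 0) : s = 0 := by
  haveI := CurvLib.isNoetherian k (X := X)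
  haveI := isReduced_top k X π
  haveI := isLocallyNoetherian_top k X π
  haveI : CompactSpace Y := QuasiCompact.compactSpace_of_compactSpace π
  haveI : IsNoetherian Y := {}
  refine BlowRegLib.eq_zero_of_generic_germs
    (LocSuppLib.isCoh_of_isFinLocFree (fun y => (hE y).imp fun V ⟨hV, he⟩ => ⟨r, hV, he⟩))
    (torsionFree_of_locFree hE) s fun η hη hf => h η hη (BlowRegLib.mem_of_isField_stalk hUd hf)

variable {r : ℕ} {F : X.Modules} (hF : Coh.IsCoh F) (a : X → ℕ)
  (hfree : ∀ x : X, ¬ Curv2.IsNode k X x →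
    Nonempty (F.presheaf.stalk x ≃ₗ[X.presheaf.stalk x] (Fin r → X.presheaf.stalk x)))
  (htype : ∀ x : X, Curv2.IsNode k X x → a x ≤ r ∧
    Nonempty (F.presheaf.stalk x ≃ₗ[X.presheaf.stalk x]
      ((Fin (a x) → X.presheaf.stalk x) × (Fin (r - a x) → maximalIdeal (X.presheaf.stalk x)))))

include hfree htype in
theorem torsionFree_F : TorSh.IsTorsionFree F := fun x => by
  by_cases hx : Curv2.IsNode k X x
  · obtain ⟨-, ⟨e⟩⟩ := htype x hx
    exact ⟨fun s hs m m' h => sub_eq_zero.1 (torsionFree e s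
      (mem_nonZeroDivisors_iff_right.2 fun z hz => hs.2 (hz.trans (zero_mul s).symm)) _ (by
        rw [smul_sub, show s • m = s • m' from h, sub_self]))⟩
  · obtain ⟨e⟩ := hfree x hx
    exact isTorsionFree_stalk_pi e

include k hUiso in
/-- Off the nodes `1` is a basis of `π_* O`. -/
theorem one_bijective (hnod : Curv2.AtWorstNodal k X) (hU : ∀ x : X, x ∈ U ↔ ¬ Curv2.IsNode k X x) {x : X}
    (hx : x ∈ U) : Function.Bijective (fun c : X.presheaf.stalk x => c • one π x) := by
  haveI := NodalLib.isReduced k hnod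
  haveI := hUiso
  haveI : IsClosedImmersion (π ∣_ U) := inferInstance
  haveI := GenusPushLib.mono_unit π U (dense_compl_nodes k X U hU)
  let u1 := ((St x).map (ClSub.unitToPush π)).hom
  have hu1 : u1 (KoszIntLib.one' x) = one π x := by
    refine (DevissLib.gm_app (ClSub.unitToPush π) x (U := ⊤) trivial _).trans ?_
    exact congrArg (DevissLib.gm (PO π) (U := ⊤) x trivial) (map_one (π.app ⊤).hom)
  have hinj : Function.Injective u1 := (ModuleCat.mono_iff_injective _).1 inferInstance
  have hsurj : Function.Surjective u1 := by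
    have h0 := GenusPushLib.notMem_support_cokernel_unit π U hx
    haveI : Subsingleton ((cokernel (ClSub.unitToPush π)).presheaf.stalk x) :=
      ModuleCat.subsingleton_of_isZero ((DevissLib.notMem_support_iff _ x).1 h0)
    rw [← LinearMap.range_eq_top]
    have h1 : Module.length (X.presheaf.stalk x) ((cokernel (ClSub.unitToPush π)).presheaf.stalk x) = 0 :=
      Module.length_eq_zero
    rw [NormDimOneLib.length_cokernel, Module.length_eq_zero_iff, Submodule.Quotient.subsingleton_iff] at h1
    exact h1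
  have he : (fun c : X.presheaf.stalk x => c • one π x) = u1 ∘ fun c => c • KoszIntLib.one' x :=
    funext fun c => (by rw [Function.comp_apply, map_smul, hu1])
  rw [he]
  exact Function.Bijective.comp ⟨hinj, hsurj⟩ (KoszIntLib.one'_bijective x)

include hU hUiso hnod hF in
/-- Off the nodes the unit is bijective on stalks. -/
theorem unit_bijective {x : X} (hx : x ∈ U) : Function.Bijective ((St x).map (unit π F)).hom := by
  haveI := CurvLib.isNoetherian k (X := X)
  obtain ⟨Θ, hΘ⟩ := exists_theta π F hF x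
  let A := X.presheaf.stalk x
  let eP : A ≃ₗ[A] ((St x).obj (PO π) : Type u) :=
    LinearEquiv.ofBijective (LinearMap.toSpanSingleton A _ (one π x)) (one_bijective k π hUiso hnod hU hx)
  let L := (TensorProduct.lid A ((St x).obj F : Type u)).symm.trans
    (TensorProduct.congr eP (LinearEquiv.refl A ((St x).obj F : Type u)))
  have h : ⇑((St x).map (unit π F)).hom = Θ ∘ L := funext fun m => by
    rw [← hΘ m, Function.comp_apply]
    refine congrArg Θ ?_
    change _ = eP 1 ⊗ₜ[A] m
    rw [show eP 1 = (1 : A) • one π x from rfl, one_smul]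
  rw [h]
  exact Θ.bijective.comp L.bijective

include hU hUiso hUd hnod hF htype in
/-- At a node: the unit is injective with cokernel of length `2r - a`. -/
theorem unit_node [IsAlgClosed k] (hdim : topologicalKrullDim X = 1) {x : X} (hx : Curv2.IsNode k X x) :
    Function.Injective ((St x).map (unit π F)).hom ∧
      Module.length (X.presheaf.stalk x) ((cokernel (unit π F)).presheaf.stalk x) = ((2 * r - a x : ℕ) : ℕ∞) := by
  haveI := CurvLib.isNoetherian k (X := X)
  have hP := nodeData k X π hdim.le hnod U hU hUiso hUd hx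
  obtain ⟨hle, ⟨e⟩⟩ := htype x hx
  obtain ⟨Θ, hΘ⟩ := exists_theta π F hF x
  refine ⟨(injective_iff_map_eq_zero _).2 fun m hm => ?_, ?_⟩
  · rw [← hΘ, Θ.map_eq_zero_iff] at hm
    exact one_tmul_injective hP m hm e
  · rw [NormDimOneLib.length_cokernel, show (2 * r - a x : ℕ) = a x + 2 * (r - a x) from by omega,
      ← length_quot_one e hP]
    refine (Submodule.Quotient.equiv _ _ Θ ?_).length_eq.symm
    refine (LinearMap.range_comp _ _).symm.trans (congrArg LinearMap.range ?_)
    exact LinearMap.ext fun m => hΘ m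

section Beta

variable {E₀ : Y.Modules} (p : (Scheme.Modules.pullback π).obj F ⟶ E₀) [Epi p]

/-- The composite `F → π_* π^* F → π_* E₀`. -/
abbrev beta : F ⟶ pf π E₀ := unit π F ≫ (Scheme.Modules.pushforward π).map p

variable (hE₀ : FlatMod.IsFinLocFreeOfRank r E₀)

include hE₀ hU hfree hUiso in
/-- Over `U` the quotient `p` is injective on stalks. -/
theorem p_injective (y : Y) (hy : π y ∈ U) : Function.Injective ((St y).map p).hom := by
  obtain ⟨eF⟩ := hfree (π y) ((hU _).1 hy)
  obtain ⟨eE⟩ := CurvLib.nonempty_stalk_pi_of_locFree hE₀ y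
  let R := X.presheaf.stalk (π y)
  let R' := Y.presheaf.stalk y
  letI : Algebra R R' := (π.stalkMap y).hom.toAlgebra
  let N := ((St (π y)).obj F : Type u)
  let e1 : (R' ⊗[R] N) ≃ₗ[R'] ((St y).obj ((Scheme.Modules.pullback π).obj F) : Type u) :=
    ((KFlatLib.stalkPullIso π y).app F).toLinearEquiv.symm
  let eN : (R' ⊗[R] N) ≃ₗ[R'] (Fin r → R') :=
    (TensorProduct.AlgebraTensorModule.congr (LinearEquiv.refl R' R') eF).trans
      (TensorProduct.piScalarRight R R' R' (Fin r))
  let q := ((St y).map p).hom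
  have hq : Function.Surjective q := (ModuleCat.epi_iff_surjective _).1 inferInstance
  let φ : (Fin r → R') →ₗ[R'] (Fin r → R') :=
    eE.toLinearMap ∘ₗ q ∘ₗ e1.toLinearMap ∘ₗ eN.symm.toLinearMap
  have hφs : Function.Surjective φ :=
    eE.surjective.comp (hq.comp (e1.surjective.comp eN.symm.surjective))
  have hφ : Function.Injective φ := OrzechProperty.injective_of_surjective_endomorphism φ hφs
  intro m m' h
  obtain ⟨z, rfl⟩ := e1.surjective m
  obtain ⟨z', rfl⟩ := e1.surjective m'
  obtain ⟨w, rfl⟩ := eN.symm.surjective z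
  obtain ⟨w', rfl⟩ := eN.symm.surjective z'
  exact congrArg (fun t => e1 (eN.symm t)) (hφ (congrArg eE h))

include hE₀ hU hUiso hUd hfree htype hF hnod in
/-- `β` is injective on stalks. -/
theorem beta_injective (x : X) : Function.Injective ((St x).map (beta π p)).hom := by
  haveI := CurvLib.isNoetherian k (X := X)
  haveI := NodalLib.isReduced k hnod
  refine (injective_iff_map_eq_zero _).2 fun m hm => ?_
  obtain ⟨V, hx, t, rfl⟩ := exists_gm_eq F x m
  rw [gm_app] at hm
  obtain ⟨W, hWV, hxW, hW⟩ := exists_nbhd_zero _ x hx _ hm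
  rw [← gm_map F hWV x hxW]
  set t' := F.presheaf.map (homOfLE hWV).op t
  have ht' : (beta π p).app W t' = 0 := (QCohLib.app_map (beta π p) (homOfLE hWV) t).trans hW
  suffices h0 : t' = 0 by rw [h0, gm_zero]
  refine BlowRegLib.eq_zero_of_generic_germs hF (torsionFree_F k a hfree htype) t' fun η hη hf => ?_
  have hηU : η ∈ U := (hU η).2 (not_node_of_isField k X hf)
  apply (unit_bijective k π hU hUiso hnod hF hηU).1
  rw [gm_app, map_zero]
  have hWU : W ⊓ U ≤ W := inf_le_left
  rw [← gm_map (pf π (pb π F)) hWU η (show η ∈ W ⊓ U from ⟨hη, hηU⟩)]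
  refine (congrArg (DevissLib.gm (pf π (pb π F)) η (show η ∈ W ⊓ U from ⟨hη, hηU⟩)) ?_).trans
    (gm_zero (pf π (pb π F)) (U := W ⊓ U) η ⟨hη, hηU⟩)
  change ((Scheme.Modules.pullback π).obj F).presheaf.map (homOfLE (π.preimage_mono hWU)).op
    (puSec π t') = 0
  refine eq_zero_of_germs _ _ fun y hy => ?_
  rw [gm_map]
  apply p_injective k π hU hUiso hfree p hE₀ y hy.2
  rw [gm_app, map_zero]
  exact (congrArg (DevissLib.gm E₀ y (π.preimage_mono hWU hy)) ht').trans (gm_zero E₀ y _)

/-- `π_* p` is surjective on stalks. -/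
theorem push_p_surjective (hF : Coh.IsCoh F) (hE : Coh.IsQCoh E₀) (x : X) :
    Function.Surjective ((St x).map ((Scheme.Modules.pushforward π).map p)).hom := by
  haveI := hE
  haveI := hF.1
  haveI := KFlatLib.isQCoh_pullback π F
  intro m
  obtain ⟨W, hx, s, rfl⟩ := exists_gm_eq _ x m
  obtain ⟨V, hV, hxV, hVW⟩ := exists_isAffineOpen_mem_and_subset hx
  obtain ⟨s', hs'⟩ := OmegaAffLib.surjective_app_of_epi p (hV.preimage π)
    ((pf π E₀).presheaf.map (homOfLE (show V ≤ W from hVW)).op s)
  refine ⟨DevissLib.gm (pf π (pb π F)) x hxV s', ?_⟩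
  rw [gm_app]
  exact (congrArg (DevissLib.gm (pf π E₀) x hxV) hs').trans (gm_map _ _ x hxV s)

include hE₀ hUiso hUd hU hnod in
/-- Direct images of locally free modules from the normalisation are torsion free. -/
theorem push_torsionFree (x : X) : ∀ s ∈ (X.presheaf.stalk x)⁰, ∀ m : (St x).obj (pf π E₀), s • m = 0 → m = 0 := by
  haveI := CurvLib.isNoetherian k (X := X)
  haveI := NodalLib.isReduced k hnod
  intro s hs m hm
  obtain ⟨W, hx, e, rfl⟩ := exists_gm_eq _ x m
  obtain ⟨W', hxW', s', rfl⟩ := TopCat.Presheaf.germ_exist X.presheaf s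
  obtain ⟨V, hV, hxV, hVle⟩ := exists_isAffineOpen_mem_and_subset (show x ∈ W ⊓ W' from ⟨hx, hxW'⟩)
  have hVW : V ≤ W := fun z hz => (hVle hz).1
  have hVW' : V ≤ W' := fun z hz => (hVle hz).2
  obtain ⟨g, hxg, hreg⟩ := NormGenusLib.exists_reg_nbhd hV hxV (X.presheaf.map (homOfLE hVW').op s')
    (by rw [TopCat.Presheaf.germ_res_apply]; exact hs)
  let D := X.basicOpen g
  have hDV : D ≤ V := X.basicOpen_le g
  let r0 := X.presheaf.map (homOfLE hDV).op (X.presheaf.map (homOfLE hVW').op s')
  let e0 := (pf π E₀).presheaf.map (homOfLE (hDV.trans hVW)).op e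
  have h1 : DevissLib.gm (pf π E₀) x hxg (r0 • e0) = 0 := by
    rw [gm_smul, gm_map, TopCat.Presheaf.germ_res_apply, TopCat.Presheaf.germ_res_apply]
    exact hm
  obtain ⟨T, hTD, hxT, hT⟩ := exists_nbhd_zero _ x hxg _ h1
  rw [Scheme.Modules.map_smul] at hT
  let r1 := X.presheaf.map (homOfLE hTD).op r0
  let e1 := (pf π E₀).presheaf.map (homOfLE hTD).op e0
  suffices h0 : (show Γ(E₀, π ⁻¹ᵁ T) from e1) = 0 by
    rw [← gm_map (pf π E₀) (hDV.trans hVW) x hxg, ← gm_map (pf π E₀) hTD x hxT]
    exact (congrArg (DevissLib.gm (pf π E₀) x hxT) h0).trans (gm_zero _ x hxT)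
  refine eq_zero_of_germs_U k π hUd hE₀ _ fun y hy hyU => ?_
  haveI := isIso_stalkMap π hUiso y hyU
  have hr : IsRegular (Y.presheaf.germ (π ⁻¹ᵁ T) y hy (π.app T r1)) := by
    rw [← Scheme.Hom.germ_stalkMap_apply π T y hy r1]
    have hb := ConcreteCategory.bijective_of_isIso (π.stalkMap y)
    rw [isRegular_iff_mem_nonZeroDivisors, mem_nonZeroDivisors_iff_right]
    intro z hz
    obtain ⟨z0, rfl⟩ := hb.2 z
    rw [← map_mul] at hz
    have hz0 := hb.1 (hz.trans (map_zero _).symm)
    rw [mem_nonZeroDivisors_iff_right.1 (NodeFrobLib.Reg.res hreg hTD (π y) hy) z0 hz0, map_zero]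
  haveI := torsionFree_of_locFree hE₀ y
  refine hr.isSMulRegular (M := E₀.presheaf.stalk y) ?_
  change _ • DevissLib.gm E₀ y hy (show Γ(E₀, π ⁻¹ᵁ T) from e1) = _ • (0 : (St y).obj E₀)
  rw [smul_zero, ← gm_smul]
  exact (congrArg (DevissLib.gm E₀ y hy) hT).trans (gm_zero E₀ y hy)

include hE₀ hU hUiso hUd hfree htype hF hnod in
/-- At a node: the algebraic picture of `β`. -/
theorem beta_node [IsAlgClosed k] (hdim : topologicalKrullDim X = 1) {x : X} (hx : Curv2.IsNode k X x) :
    Module.length (X.presheaf.stalk x) ((cokernel (beta π p)).presheaf.stalk x) = (a x : ℕ∞) ∧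
    ∀ {E' : X.Modules} (L : pf π E₀ ⟶ E'), Function.Injective ((St x).map (beta π p ≫ L)).hom →
      Function.Injective ((St x).map L).hom := by
  haveI := CurvLib.isNoetherian k (X := X)
  have hP := nodeData k X π hdim.le hnod U hU hUiso hUd hx
  obtain ⟨-, ⟨e⟩⟩ := htype x hx
  obtain ⟨Θ, hΘ⟩ := exists_theta π F hF x
  let g := ((St x).map ((Scheme.Modules.pushforward π).map p)).hom ∘ₗ Θ.toLinearMap
  have hg : Function.Surjective g :=
    (push_p_surjective π p hF (LocSuppLib.isCoh_of_isFinLocFree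
      (fun y => (hE₀ y).imp fun V ⟨hV, he⟩ => ⟨r, hV, he⟩)).1 x).comp Θ.surjective
  have hgβ : ∀ m, g (one π x ⊗ₜ m) = ((St x).map (beta π p)).hom m := fun m => by
    rw [Functor.map_comp, ModuleCat.hom_comp, LinearMap.comp_apply]
    exact congrArg _ (hΘ m)
  have hinj : ∀ m, g (one π x ⊗ₜ m) = 0 → m = 0 := fun m hm =>
    beta_injective k π hU hUiso hUd hnod hF a hfree htype p hE₀ x (by rw [← hgβ, hm, map_zero])
  have htf := push_torsionFree k π hU hUiso hUd hnod (E₀ := E₀) hE₀ x
  refine ⟨?_, fun {E'} L hL => ?_⟩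
  · rw [NormDimOneLib.length_cokernel, ← length_quot_image e hP g htf hinj hg]
    refine (Submodule.quotEquivOfEq _ _ (congrArg LinearMap.range ?_)).length_eq
    exact LinearMap.ext fun m => (hgβ m).symm
  · refine injective_of_injective_one hP g htf hg ((St x).map L).hom fun m hm => hL ?_
    rw [Functor.map_comp, ModuleCat.hom_comp, LinearMap.comp_apply, ← hgβ, map_zero]
    exact hm

include hE₀ hU hUiso hnod hF in
/-- Off the nodes `β` is surjective on stalks. -/
theorem beta_surjective {x : X} (hx : x ∈ U) : Function.Surjective ((St x).map (beta π p)).hom := by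
  rw [Functor.map_comp, ModuleCat.hom_comp]
  exact (push_p_surjective π p hF (LocSuppLib.isCoh_of_isFinLocFree
    (fun y => (hE₀ y).imp fun V ⟨hV, he⟩ => ⟨r, hV, he⟩)).1 x).comp
    (unit_bijective k π hU hUiso hnod hF hx).2

include hE₀ hU hUiso hUd hfree in
/-- `p` has the universal property of the quotient by torsion. -/
theorem existsUnique_factor {E : Y.Modules} (hE : FlatMod.IsFinLocFreeOfRank r E) (f : F ⟶ pf π E) :
    ∃! lam : E₀ ⟶ E, unit π F ≫ (Scheme.Modules.pushforward π).map p ≫
      (Scheme.Modules.pushforward π).map lam = f := by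
  let adj := Scheme.Modules.pullbackPushforwardAdjunction π
  let φ : (Scheme.Modules.pullback π).obj F ⟶ E := (adj.homEquiv F E).symm f
  have h : kernel.ι p ≫ φ = 0 := by
    refine Scheme.Modules.hom_ext _ _ fun W => ?_
    ext s
    refine eq_zero_of_germs_U k π hUd hE _ fun y hy hyU => ?_
    have hz : DevissLib.gm _ y hy ((kernel.ι p).app W s) = 0 := by
      apply p_injective k π hU hUiso hfree p hE₀ y hyU
      rw [gm_app, map_zero]
      exact (congrArg (fun ψ => DevissLib.gm E₀ y hy (ψ.app W s)) (kernel.condition p)).trans (gm_zero E₀ y hy)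
    refine (gm_app φ y hy ((kernel.ι p).app W s)).symm.trans ?_
    rw [hz, map_zero]
  have key : ∀ lam : E₀ ⟶ E, unit π F ≫ (Scheme.Modules.pushforward π).map p ≫
      (Scheme.Modules.pushforward π).map lam = (adj.homEquiv F E) (p ≫ lam) := fun lam => by
    rw [Adjunction.homEquiv_unit, Functor.map_comp]
  refine ⟨Abelian.epiDesc p φ h, ?_, fun lam hlam => ?_⟩
  · refine (key _).trans ?_
    rw [Abelian.comp_epiDesc]
    exact Equiv.apply_symm_apply _ _
  · replace hlam := (key lam).symm.trans hlam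
    rw [← cancel_epi p, Abelian.comp_epiDesc]
    exact ((adj.homEquiv F E).symm_apply_apply _).symm.trans (congrArg (adj.homEquiv F E).symm hlam)

end Beta

end TFNodalLib

namespace TFNodalLib

/-- Lengths of cokernels of a composite with injective second map. -/
theorem length_quot_comp {R M₁ M₂ M₃ : Type u} [CommRing R] [AddCommGroup M₁] [AddCommGroup M₂] [AddCommGroup M₃]
    [Module R M₁] [Module R M₂] [Module R M₃] (f : M₁ →ₗ[R] M₂) (g : M₂ →ₗ[R] M₃) (hg : Function.Injective g) :
    Module.length R (M₃ ⧸ LinearMap.range (g ∘ₗ f)) =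
      Module.length R (M₂ ⧸ LinearMap.range f) + Module.length R (M₃ ⧸ LinearMap.range g) := by
  have hle : LinearMap.range f ≤ Submodule.comap g (LinearMap.range (g ∘ₗ f)) := by
    rintro _ ⟨m, rfl⟩
    exact ⟨m, rfl⟩
  let α := Submodule.mapQ _ _ g hle
  let β := Submodule.factor (LinearMap.range_comp_le_range f g)
  refine Module.length_eq_add_of_exact α β ?_ (Submodule.factor_surjective _) ?_
  · refine (injective_iff_map_eq_zero α).2 fun q hq => ?_
    obtain ⟨y, rfl⟩ := Submodule.mkQ_surjective _ q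
    obtain ⟨m, hm⟩ := (Submodule.Quotient.mk_eq_zero _).1 hq
    exact (Submodule.Quotient.mk_eq_zero _).2 ⟨m, hg hm⟩
  · intro q
    obtain ⟨z, rfl⟩ := Submodule.mkQ_surjective _ q
    refine ⟨fun h => ?_, ?_⟩
    · obtain ⟨y, hy⟩ := (Submodule.Quotient.mk_eq_zero _).1 h
      exact ⟨Submodule.Quotient.mk y, congrArg Submodule.Quotient.mk hy⟩
    · rintro ⟨t, ht⟩
      obtain ⟨y, rfl⟩ := Submodule.mkQ_surjective _ t
      rw [← ht]
      exact (Submodule.Quotient.mk_eq_zero _).2 ⟨y, rfl⟩

theorem subsingleton_cokernel {Z : Scheme.{u}} {A B : Z.Modules} (f : A ⟶ B) (z : Z)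
    (h : Function.Surjective ((St z).map f).hom) : Subsingleton ((cokernel f).presheaf.stalk z) :=
  ModuleCat.subsingleton_of_isZero ((DevissLib.notMem_support_iff _ z).1 (DevissLib.notMem_support_cokernel f z h))

end TFNodalLib
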