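import Mathlib

/-!
# Torsion free modules at a node and their pullback to the normalisation: the algebra

`P` plays the role of the normalisation `B` of the local ring `A` of a node, `o` of `1 ∈ B`.
-/

set_option autoImplicit false
set_option linter.style.haveILetI false

universe u

open IsLocalRing Submodule
open scoped TensorProduct nonZeroDivisors

noncomputable section

namespace TFNodalLib

variable {A : Type u} [CommRing A] [IsLocalRing A]

/-- The properties of the normalisation of a node used below. -/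
structure NodeData (P : Type u) [AddCommGroup P] [Module A P] (o : P) : Prop where
  inj : ∀ a : A, a • o = 0 → a = 0
  cond : ∀ s ∈ maximalIdeal A, ∀ b : P, ∃ c ∈ maximalIdeal A, s • b = c • o
  tf : ∀ s ∈ A⁰, ∀ b : P, s • b = 0 → b = 0
  exists_reg : ∃ s ∈ maximalIdeal A, s ∈ A⁰
  length_quot : Module.length A (P ⧸ Submodule.span A {o}) = 1
  length_cot : Module.length A (maximalIdeal A).Cotangent = 2

variable {P : Type u} [AddCommGroup P] [Module A P] {o : P}
  {M : Type u} [AddCommGroup M] [Module A M] {a b : ℕ}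
  (e : M ≃ₗ[A] (Fin a → A) × (Fin b → maximalIdeal A))

/-- `p ⊗ m ↦ p m` into the free module. -/
def mu : P ⊗[A] M →ₗ[A] (Fin a → P) × (Fin b → P) :=
  TensorProduct.lift (LinearMap.mk₂ A
    (fun p x => (fun i => (e x).1 i • p, fun j => ((e x).2 j : A) • p))
    (fun p p' x => by ext <;> simp [smul_add])
    (fun c p x => by ext <;> simp [smul_comm c])
    (fun p x x' => by ext <;> simp [add_smul])
    (fun c p x => by ext <;> simp [mul_smul]))

theorem mu_tmul (p : P) (x : M) :
    mu e (p ⊗ₜ[A] x) = (fun i => (e x).1 i • p, fun j => ((e x).2 j : A) • p) := rfl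

include e in
theorem torsionFree : ∀ s ∈ A⁰, ∀ x : M, s • x = 0 → x = 0 := fun s hs x hx => by
  apply e.injective
  have h : s • e x = 0 := by rw [← map_smul, hx, map_zero]
  rw [map_zero]
  refine Prod.ext (funext fun i => ?_) (funext fun j => Subtype.ext ?_)
  · exact mem_nonZeroDivisors_iff_right.1 hs _ (by
      rw [mul_comm]; exact congrFun (congrArg Prod.fst h) i)
  · exact mem_nonZeroDivisors_iff_right.1 hs _ (by
      rw [mul_comm]; exact congrArg Subtype.val (congrFun (congrArg Prod.snd h) j))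

variable (hP : NodeData (A := A) P o)
include hP

theorem mu_one_injective (x : M) (h : mu e (o ⊗ₜ[A] x) = 0) : x = 0 := by
  apply e.injective
  rw [map_zero]
  rw [mu_tmul] at h
  exact Prod.ext (funext fun i => hP.inj _ (congrFun (congrArg Prod.fst h) i))
    (funext fun j => Subtype.ext (hP.inj _ (congrFun (congrArg Prod.snd h) j)))

theorem one_tmul_injective (x : M) (h : o ⊗ₜ[A] x = (0 : P ⊗[A] M))
    (e : M ≃ₗ[A] (Fin a → A) × (Fin b → maximalIdeal A)) : x = 0 :=
  mu_one_injective e hP x (by rw [h, map_zero])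

/-- The maximal ideal maps into the image of `M`. -/
theorem smul_mem_one (s : A) (hs : s ∈ maximalIdeal A) (ξ : P ⊗[A] M) :
    ∃ x : M, s • ξ = o ⊗ₜ[A] x := by
  induction ξ using TensorProduct.induction_on with
  | zero => exact ⟨0, by rw [smul_zero, TensorProduct.tmul_zero]⟩
  | tmul p x =>
    obtain ⟨c, -, hc⟩ := hP.cond s hs p
    exact ⟨c • x, by rw [TensorProduct.smul_tmul', hc, TensorProduct.smul_tmul]⟩
  | add ξ η hξ hη =>
    obtain ⟨x, hx⟩ := hξ
    obtain ⟨y, hy⟩ := hη
    exact ⟨x + y, by rw [smul_add, hx, hy, TensorProduct.tmul_add]⟩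

theorem smul_eq_zero_of_mu (ξ : P ⊗[A] M) (h : mu e ξ = 0) (s : A) (hs : s ∈ maximalIdeal A) :
    s • ξ = 0 := by
  obtain ⟨x, hx⟩ := smul_mem_one hP s hs ξ
  have : mu e (o ⊗ₜ[A] x) = 0 := by rw [← hx, map_smul, h, smul_zero]
  rw [hx, mu_one_injective e hP x this, TensorProduct.tmul_zero]

theorem snd_mem (ξ : P ⊗[A] M) (j : Fin b) : ∃ c ∈ maximalIdeal A, (mu e ξ).2 j = c • o := by
  induction ξ using TensorProduct.induction_on with
  | zero => exact ⟨0, zero_mem _, by simp⟩
  | tmul p x => exact hP.cond _ ((e x).2 j).2 p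
  | add ξ η hξ hη =>
    obtain ⟨c, hc, hcξ⟩ := hξ
    obtain ⟨d, hd, hdη⟩ := hη
    exact ⟨c + d, add_mem hc hd, by rw [map_add, add_smul, ← hcξ, ← hdη]; rfl⟩

include e in
/-- The cokernel of `M → P ⊗ M` has length `a + 2 b`. -/
theorem length_quot_one :
    Module.length A ((P ⊗[A] M) ⧸ LinearMap.range ((TensorProduct.mk A P M) o)) =
      (a + 2 * b : ℕ) := by
  classical
  let S := Submodule.span A ({o} : Set P)
  haveI : IsSimpleModule A (P ⧸ S) := Module.length_eq_one_iff.1 hP.length_quot
  obtain ⟨I, hI, ⟨eI⟩⟩ := (isSimpleModule_iff_quot_maximal (R := A) (M := P ⧸ S)).1 inferInstance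
  obtain rfl := eq_maximalIdeal hI
  have hr : LinearMap.range ((TensorProduct.mk A P M) o) = LinearMap.range (LinearMap.rTensor M S.subtype) := by
    refine le_antisymm ?_ ?_
    · rintro _ ⟨x, rfl⟩
      exact ⟨(⟨o, Submodule.mem_span_singleton_self o⟩ : S) ⊗ₜ x, rfl⟩
    · rintro _ ⟨t, rfl⟩
      induction t using TensorProduct.induction_on with
      | zero => simp
      | tmul p x =>
        obtain ⟨c, hc⟩ := Submodule.mem_span_singleton.1 p.2
        refine ⟨c • x, ?_⟩
        rw [LinearMap.rTensor_tmul, Submodule.subtype_apply, ← hc, TensorProduct.smul_tmul]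
        rfl
      | add t t' ht ht' => rw [map_add]; exact add_mem ht ht'
  let m := maximalIdeal A
  let T := A ⧸ m
  let E1 : ((P ⊗[A] M) ⧸ LinearMap.range ((TensorProduct.mk A P M) o)) ≃ₗ[A] T ⊗[A] M :=
    (Submodule.quotEquivOfEq _ _ hr).trans
      ((TensorProduct.quotientTensorEquiv M S).symm.trans (TensorProduct.congr eI (LinearEquiv.refl A M)))
  let E2 : T ⊗[A] M ≃ₗ[A] (Fin a → T) × (Fin b → T ⊗[A] m) :=
    (TensorProduct.congr (LinearEquiv.refl A T) e).trans ((TensorProduct.prodRight A A T _ _).trans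
      (LinearEquiv.prodCongr ((TensorProduct.piRight A A T fun _ => A).trans
        (LinearEquiv.piCongrRight fun _ => TensorProduct.rid A T)) (TensorProduct.piRight A A T fun _ => m)))
  haveI : IsSimpleModule A T := IsSimpleModule.congr eI.symm
  have hT : Module.length A T = 1 := Module.length_eq_one A T
  have hTm : Module.length A (T ⊗[A] m) = 2 := by
    rw [← hP.length_cot]
    exact (TensorProduct.quotTensorEquivQuotSMul m m).length_eq
  rw [(E1.trans E2).length_eq, Module.length_prod, Module.length_pi_of_fintype, Module.length_pi_of_fintype,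
    Finset.sum_const, Finset.sum_const, hT, hTm, Finset.card_univ, Finset.card_univ, Fintype.card_fin,
    Fintype.card_fin]
  push_cast
  simp [mul_comm]

/-- The cokernel of `M → (P ⊗ M)/torsion` has length `a`. -/
theorem length_quot_sup :
    Module.length A ((P ⊗[A] M) ⧸ (LinearMap.range ((TensorProduct.mk A P M) o) ⊔ LinearMap.ker (mu e))) =
      (a : ℕ) := by
  classical
  let S := Submodule.span A ({o} : Set P)
  let ψ : P ⊗[A] M →ₗ[A] (Fin a → P ⧸ S) :=
    LinearMap.pi fun i => S.mkQ ∘ₗ LinearMap.proj i ∘ₗ LinearMap.fst A _ _ ∘ₗ mu e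
  have hψ : ∀ ξ i, ψ ξ i = S.mkQ ((mu e ξ).1 i) := fun _ _ => rfl
  have hsurj : Function.Surjective ψ := fun y => by
    choose p hp using fun i => S.mkQ_surjective (y i)
    refine ⟨∑ i, p i ⊗ₜ[A] e.symm (Pi.single i 1, 0), funext fun l => ?_⟩
    rw [map_sum, Finset.sum_apply, Finset.sum_eq_single l (fun i _ hi => ?_) (by simp)]
    · rw [hψ, mu_tmul, e.apply_symm_apply, ← hp l]
      simp
    · rw [hψ, mu_tmul, e.apply_symm_apply]
      simp [Pi.single_eq_of_ne (Ne.symm hi)]
  have hker : LinearMap.ker ψ = LinearMap.range ((TensorProduct.mk A P M) o) ⊔ LinearMap.ker (mu e) := by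
    refine le_antisymm (fun ξ hξ => ?_) (sup_le ?_ ?_)
    · have h1 : ∀ i, (mu e ξ).1 i ∈ S := fun i => by
        have := congrFun (LinearMap.mem_ker.1 hξ) i
        rw [hψ] at this
        exact (Submodule.Quotient.mk_eq_zero S).1 this
      choose u hu using fun i => Submodule.mem_span_singleton.1 (h1 i)
      choose c hc hcξ using snd_mem e hP ξ
      let x := e.symm (u, fun j => ⟨c j, hc j⟩)
      have hx : mu e (o ⊗ₜ[A] x) = mu e ξ := by
        rw [mu_tmul, e.apply_symm_apply]
        exact Prod.ext (funext hu) (funext fun j => (hcξ j).symm)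
      rw [show ξ = o ⊗ₜ[A] x + (ξ - o ⊗ₜ[A] x) from by abel]
      exact Submodule.add_mem_sup ⟨x, rfl⟩ (by rw [LinearMap.mem_ker, map_sub, hx, sub_self])
    · rintro _ ⟨x, rfl⟩
      refine LinearMap.mem_ker.2 (funext fun i => ?_)
      rw [hψ, TensorProduct.mk_apply, mu_tmul]
      exact (Submodule.Quotient.mk_eq_zero S).2 (Submodule.mem_span_singleton.2 ⟨_, rfl⟩)
    · intro ξ hξ
      refine LinearMap.mem_ker.2 (funext fun i => ?_)
      rw [hψ, LinearMap.mem_ker.1 hξ]
      simp
  rw [((Submodule.quotEquivOfEq _ _ hker.symm).trans (ψ.quotKerEquivOfSurjective hsurj)).length_eq,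
    Module.length_pi_of_fintype, Finset.sum_const, hP.length_quot, Finset.card_univ, Fintype.card_fin]
  simp

variable {E : Type u} [AddCommGroup E] [Module A E] (g : P ⊗[A] M →ₗ[A] E)
  (htf : ∀ s ∈ A⁰, ∀ y : E, s • y = 0 → y = 0) (hinj : ∀ x : M, g (o ⊗ₜ[A] x) = 0 → x = 0)

include htf hinj in
/-- A map to a torsion free module which is injective on `M` has the torsion as kernel. -/
theorem ker_eq_of_injective : LinearMap.ker g = LinearMap.ker (mu e) := by
  obtain ⟨s, hs, hs0⟩ := hP.exists_reg
  refine le_antisymm (fun ξ hξ => ?_) (fun ξ hξ => ?_)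
  · rw [LinearMap.mem_ker] at hξ ⊢
    obtain ⟨x, hx⟩ := smul_mem_one hP s hs ξ
    have hx0 : x = 0 := hinj x (by rw [← hx, map_smul, hξ, smul_zero])
    have h0 : s • mu e ξ = 0 := by rw [← map_smul, hx, hx0, TensorProduct.tmul_zero, map_zero]
    exact Prod.ext (funext fun i => hP.tf s hs0 _ (congrFun (congrArg Prod.fst h0) i))
      (funext fun j => hP.tf s hs0 _ (congrFun (congrArg Prod.snd h0) j))
  · rw [LinearMap.mem_ker] at hξ ⊢
    exact htf s hs0 _ (by rw [← map_smul, smul_eq_zero_of_mu e hP ξ hξ s hs, map_zero])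

include e htf hinj in
/-- The cokernel of `M → E`, for a torsion free quotient `E` of `P ⊗ M`, has length `a`. -/
theorem length_quot_image (hg : Function.Surjective g) :
    Module.length A (E ⧸ LinearMap.range (g ∘ₗ (TensorProduct.mk A P M) o)) = (a : ℕ) := by
  refine Eq.trans ?_ (length_quot_sup e hP)
  let R := LinearMap.range ((TensorProduct.mk A P M) o)
  let q := (LinearMap.range (g ∘ₗ (TensorProduct.mk A P M) o)).mkQ ∘ₗ g
  have hq : LinearMap.ker q = R ⊔ LinearMap.ker (mu e) := by
    rw [LinearMap.ker_comp, Submodule.ker_mkQ, LinearMap.range_comp, Submodule.comap_map_eq,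
      ker_eq_of_injective e hP g htf hinj]
  exact ((Submodule.quotEquivOfEq _ _ hq.symm).trans
    (q.quotKerEquivOfSurjective ((Submodule.mkQ_surjective _).comp hg))).length_eq.symm

include hP htf in
/-- A linear map out of such a quotient which is injective on `M` is injective. -/
theorem injective_of_injective_one (hg : Function.Surjective g) {E' : Type u} [AddCommGroup E'] [Module A E']
    (L : E →ₗ[A] E') (hL : ∀ x : M, L (g (o ⊗ₜ[A] x)) = 0 → x = 0) : Function.Injective L := by
  obtain ⟨s, hs, hs0⟩ := hP.exists_reg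
  refine (injective_iff_map_eq_zero L).2 fun y hy => ?_
  obtain ⟨ξ, rfl⟩ := hg y
  obtain ⟨x, hx⟩ := smul_mem_one hP s hs ξ
  have hx0 : x = 0 := hL x (by rw [← hx, map_smul, map_smul, hy, smul_zero])
  exact htf s hs0 _ (by rw [← map_smul, hx, hx0, TensorProduct.tmul_zero, map_zero])

end TFNodalLib
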